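import Groth.Agent.PerfFibreLib.Rank
import Groth.Agent.FlatCxLib.Locus
import Mathlib.RingTheory.Spectrum.Prime.FreeLocus
import Mathlib.RingTheory.LocalRing.Module

/-!
# Complexes of free modules with fibre cohomology in a single degree
-/

set_option autoImplicit false
set_option backward.isDefEq.respectTransparency false
set_option backward.isDefEq.respectTransparency.types false

universe u

open CategoryTheory
open scoped TensorProduct

namespace Groth.Agent.PerfFibreLib

open FlatCxLib (fibreRank)

variable {A : Type u} [CommRing A]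

section Modules

variable {P F N : Type u} [AddCommGroup P] [Module A P] [AddCommGroup F] [Module A F]
  [AddCommGroup N] [Module A N]

theorem fibreRank_prod [Module.Finite A P] [Module.Finite A F] (p : PrimeSpectrum A) :
    fibreRank (P × F) p = fibreRank P p + fibreRank F p := by
  rw [fibreRank, (TensorProduct.prodRight A p.asIdeal.ResidueField p.asIdeal.ResidueField P F).finrank_eq,
    Module.finrank_prod]
  rfl

theorem subsingleton_of_fibreRank_eq_zero [Module.Finite A N]
    (h : ∀ p : PrimeSpectrum A, fibreRank N p = 0) : Subsingleton N := by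
  rw [← Module.support_eq_empty_iff (R := A), Set.eq_empty_iff_forall_notMem]
  intro p
  rw [Module.mem_support_iff_nontrivial_residueField_tensorProduct, not_nontrivial_iff_subsingleton]
  exact Module.finrank_zero_iff.1 (h p)

/-- A map whose cokernel is projective splits off its kernel. -/
theorem ker_split [Module.Finite A P] [Module.Finite A F] [Module.Projective A F] (f : P →ₗ[A] F)
    [Module.Projective A (F ⧸ LinearMap.range f)] :
    Module.Finite A (LinearMap.ker f) ∧
      (Module.Projective A P → Module.Projective A (LinearMap.ker f)) ∧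
      ((LinearMap.ker f = ⊥) → Module.Projective A P) ∧
      ∀ p : PrimeSpectrum A, fibreRank P p + fibreRank (F ⧸ LinearMap.range f) p =
        fibreRank (LinearMap.ker f) p + fibreRank F p := by
  obtain ⟨s, hs⟩ := Module.projective_lifting_property (LinearMap.range f).mkQ LinearMap.id
    (Submodule.mkQ_surjective _)
  obtain ⟨e₁, -, -⟩ := ((LinearMap.exact_subtype_mkQ (LinearMap.range f)).splitSurjectiveEquiv
    Subtype.val_injective) ⟨s, hs⟩
  haveI : Module.Projective A (LinearMap.range f) :=
    Module.Projective.of_split ((e₁.symm.toLinearMap).comp (LinearMap.inl A _ _))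
      ((LinearMap.fst A _ _).comp e₁.toLinearMap) (by ext; simp)
  haveI : Module.Finite A (LinearMap.range f) :=
    Module.Finite.of_surjective f.rangeRestrict (LinearMap.surjective_rangeRestrict f)
  obtain ⟨t, ht⟩ := Module.projective_lifting_property f.rangeRestrict LinearMap.id
    (LinearMap.surjective_rangeRestrict f)
  have hex : Function.Exact (LinearMap.ker f).subtype f.rangeRestrict := by
    intro x
    simp [Subtype.ext_iff]
  obtain ⟨e₂, -, -⟩ := (hex.splitSurjectiveEquiv Subtype.val_injective) ⟨t, ht⟩
  haveI : Module.Finite A (LinearMap.ker f) :=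
    Module.Finite.of_surjective ((LinearMap.fst A _ _).comp e₂.toLinearMap)
      (Prod.fst_surjective.comp e₂.surjective)
  refine ⟨inferInstance, fun _ => Module.Projective.of_split
    ((e₂.symm.toLinearMap).comp (LinearMap.inl A _ _))
      ((LinearMap.fst A _ _).comp e₂.toLinearMap) (by ext; simp), fun hk => ?_, fun p => ?_⟩
  · exact Module.Projective.of_equiv
      (LinearEquiv.ofInjective f (LinearMap.ker_eq_bot.1 hk)).symm
  · rw [FlatCxLib.fibreRank_congr e₂ p, FlatCxLib.fibreRank_congr e₁ p, fibreRank_prod, fibreRank_prod,
      add_assoc]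

/-- A map between finite projective modules that is injective on all fibres has projective
cokernel. -/
theorem projective_coker [Module.Finite A P] [Module.Projective A P] [Module.Finite A F] [Module.Free A F]
    (f : P →ₗ[A] F) (hf : ∀ p : PrimeSpectrum A, Function.Injective (f.baseChange p.asIdeal.ResidueField)) :
    Module.Projective A (F ⧸ LinearMap.range f) := by
  haveI : Module.FinitePresentation A F := Module.finitePresentation_of_projective A F
  haveI : Module.FinitePresentation A (F ⧸ LinearMap.range f) :=
    Module.finitePresentation_of_surjective (LinearMap.range f).mkQ (Submodule.mkQ_surjective _)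
      (by rw [Submodule.ker_mkQ, LinearMap.range_eq_map]; exact Module.Finite.fg_top.map f)
  rw [← Module.freeLocus_eq_univ_iff, Set.eq_univ_iff_forall]
  intro p
  let Ap := Localization.AtPrime p.asIdeal
  let k := p.asIdeal.ResidueField
  rw [Module.mem_freeLocus_iff_tensor p Ap]
  refine Module.free_of_lTensor_residueField_injective (f.baseChange Ap)
    ((LinearMap.range f).mkQ.baseChange Ap)
    (LinearMap.lTensor_surjective Ap (Submodule.mkQ_surjective _))
    (lTensor_exact Ap (LinearMap.exact_map_mkQ_range f) (Submodule.mkQ_surjective _)) ?_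
  let cP := TensorProduct.AlgebraTensorModule.cancelBaseChange A Ap k k P
  let cF := TensorProduct.AlgebraTensorModule.cancelBaseChange A Ap k k F
  have key : ∀ z : k ⊗[Ap] (Ap ⊗[A] P),
      cF ((f.baseChange Ap).lTensor k z) = f.baseChange k (cP z) := by
    intro z
    induction z using TensorProduct.induction_on with
    | zero => simp
    | add x y hx hy => simp [hx, hy]
    | tmul c w =>
      induction w using TensorProduct.induction_on with
      | zero => simp
      | add x y hx hy => rw [TensorProduct.tmul_add, map_add, map_add, map_add, map_add, hx, hy]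
      | tmul a m => simp [cP, cF]
  intro x y hxy
  exact cP.injective (hf p ((key x).symm.trans ((congrArg cF hxy).trans (key y))))

end Modules

variable (M : MCx A)

/-- Fibre dimension of cohomology at an arbitrary field. -/
theorem homology_field_add (K : Type u) [Field K] [Algebra A K] (hM : ∀ i, Module.Finite A (M.X i))
    (i : ℤ) (p : PrimeSpectrum A) (hp : RingHom.ker (algebraMap A K) = p.asIdeal) :
    Module.finrank K ((((ModuleCat.extendScalars.{u, u, u} (algebraMap A K)).mapHomologicalComplex
        (ComplexShape.up ℤ)).obj M).homology i) + fibreRank (M.X (i + 1)) p =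
      fibreRank (cok M i) p + fibreRank (cok M (i + 1)) p := by
  let Q := ((ModuleCat.extendScalars.{u, u, u} (algebraMap A K)).mapHomologicalComplex
    (ComplexShape.up ℤ)).obj M
  have := hM i
  have := hM (i + 1)
  let e : ∀ j, Q.X j ≃ₗ[K] K ⊗[A] M.X j := fun j => FlatCxLib.extEquiv (B := K) (M.X j)
  have hd : ∀ j k z, e k ((Q.d j k).hom z) = (M.d j k).hom.baseChange K (e j z) := fun j k z =>
    FlatCxLib.extEquiv_map (M.d j k) z
  have hr : ∀ j k, (LinearMap.range (Q.d j k).hom).map (e k).toLinearMap =
      LinearMap.range ((M.d j k).hom.baseChange K) := fun j k => by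
    ext y
    constructor
    · rintro ⟨_, ⟨z, rfl⟩, rfl⟩
      exact ⟨e j z, (hd j k z).symm⟩
    · rintro ⟨z, rfl⟩
      exact ⟨_, ⟨(e j).symm z, rfl⟩, (hd j k _).trans (congrArg _ ((e j).apply_symm_apply z))⟩
  haveI : Module.Finite K (Q.X i) := Module.Finite.equiv (e i).symm
  haveI : Module.Finite K (Q.X (i + 1)) := Module.Finite.equiv (e (i + 1)).symm
  have h := FlatCxLib.finrank_homology_add (K := K) (Q.d (i - 1) i).hom (Q.d i (i + 1)).hom
    (LinearMap.range_le_ker_iff.2 (by rw [← ModuleCat.hom_comp, Q.d_comp_d]; rfl))
  rw [(FlatCxLib.homologyEquiv Q i (i + 1) (by simp) (i - 1) (by simp)).finrank_eq,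
    (e (i + 1)).finrank_eq,
    (Submodule.Quotient.equiv _ _ (e i) (hr (i - 1) i)).finrank_eq,
    (Submodule.Quotient.equiv _ _ (e (i + 1)) (hr i (i + 1))).finrank_eq,
    ← FlatCxLib.finrank_coker_baseChange, ← FlatCxLib.finrank_coker_baseChange] at h
  have he : fibreRank (cok M (i + 1)) p =
      Module.finrank K (K ⊗[A] (M.X (i + 1) ⧸ LinearMap.range (M.d i (i + 1)).hom)) := by
    have hj : ∀ j, j = i → fibreRank (M.X (i + 1) ⧸ LinearMap.range (M.d j (i + 1)).hom) p =
        Module.finrank K (K ⊗[A] (M.X (i + 1) ⧸ LinearMap.range (M.d i (i + 1)).hom)) := by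
      rintro j rfl
      exact (FlatCxLib.finrank_tensor_field _ K p hp).symm
    exact hj _ (by omega)
  rw [he, ← FlatCxLib.finrank_tensor_field (M.X (i + 1)) K p hp,
    ← FlatCxLib.finrank_tensor_field (cok M i) K p hp]
  exact h

/-- Fibre cohomology only depends on the point below the field. -/
theorem finrank_homology_field (K : Type u) [Field K] [Algebra A K] (hM : ∀ i, Module.Finite A (M.X i))
    (i : ℤ) (p : PrimeSpectrum A) (hp : RingHom.ker (algebraMap A K) = p.asIdeal) :
    Module.finrank K ((((ModuleCat.extendScalars.{u, u, u} (algebraMap A K)).mapHomologicalComplex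
        (ComplexShape.up ℤ)).obj M).homology i) = beta M p i := by
  have h1 := homology_field_add M K hM i p hp
  have h2 := beta_add M hM i p
  omega

/-- The induced differential on cokernels. -/
noncomputable def dbar (k : ℤ) : cok M k →ₗ[A] M.X (k + 1) :=
  (LinearMap.range (M.d (k - 1) k).hom).liftQ (M.d k (k + 1)).hom
    (LinearMap.range_le_ker_iff.2 (by rw [← ModuleCat.hom_comp, M.d_comp_d]; rfl))

theorem range_dbar (k : ℤ) : LinearMap.range (dbar M k) = LinearMap.range (M.d (k + 1 - 1) (k + 1)).hom := by
  have hj : ∀ j, j = k → LinearMap.range (M.d j (k + 1)).hom = LinearMap.range (M.d k (k + 1)).hom := by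
    rintro j rfl
    rfl
  exact (Submodule.range_liftQ _ _ _).trans (hj _ (by omega)).symm

/-- The cokernel of the induced differential. -/
noncomputable def cokDbar (k : ℤ) : (M.X (k + 1) ⧸ LinearMap.range (dbar M k)) ≃ₗ[A] cok M (k + 1) :=
  Submodule.quotEquivOfEq _ _ (range_dbar M k)

/-- Cohomology is the kernel of the induced differential. -/
theorem nonempty_homology_ker (k : ℤ) : Nonempty (M.homology k ≃ₗ[A] LinearMap.ker (dbar M k)) := by
  let q := (LinearMap.range (M.d (k - 1) k).hom).mkQ
  let φ : LinearMap.ker (M.d k (k + 1)).hom →ₗ[A] LinearMap.ker (dbar M k) :=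
    (q.comp (LinearMap.ker (M.d k (k + 1)).hom).subtype).codRestrict _ fun x => x.2
  have hsurj : Function.Surjective φ := by
    rintro ⟨x, hx⟩
    obtain ⟨y, rfl⟩ := Submodule.mkQ_surjective (LinearMap.range (M.d (k - 1) k).hom) x
    exact ⟨⟨y, hx⟩, rfl⟩
  have hker : LinearMap.ker φ = (LinearMap.range (M.d (k - 1) k).hom).comap
      (LinearMap.ker (M.d k (k + 1)).hom).subtype := by
    ext x
    rw [LinearMap.mem_ker, Subtype.ext_iff]
    exact Submodule.Quotient.mk_eq_zero _
  exact ⟨(FlatCxLib.homologyEquiv M k (k + 1) (by simp) (k - 1) (by simp)).symm.trans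
    ((Submodule.quotEquivOfEq _ _ hker.symm).trans (φ.quotKerEquivOfSurjective hsurj))⟩

variable (r : ℤ → ℕ) (e : ∀ k, M.X k ≃ₗ[A] (Fin (r k) → A))
include e

theorem dbar_split (k : ℤ) [Module.Projective A (cok M (k + 1))] :
    Module.Finite A (LinearMap.ker (dbar M k)) ∧
      (Module.Projective A (cok M k) → Module.Projective A (LinearMap.ker (dbar M k))) ∧
      ((LinearMap.ker (dbar M k) = ⊥) → Module.Projective A (cok M k)) ∧
      ∀ p : PrimeSpectrum A, fibreRank (LinearMap.ker (dbar M k)) p = beta M p k := by
  have hM : ∀ j, Module.Finite A (M.X j) := fun j => Module.Finite.equiv (e j).symm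
  have := hM k
  have := hM (k + 1)
  haveI : Module.Free A (M.X (k + 1)) := Module.Free.of_equiv (e (k + 1)).symm
  haveI : Module.Projective A (M.X (k + 1) ⧸ LinearMap.range (dbar M k)) :=
    Module.Projective.of_equiv (cokDbar M k).symm
  obtain ⟨h1, h2, h3, h4⟩ := ker_split (dbar M k)
  refine ⟨h1, h2, h3, fun p => ?_⟩
  have h := h4 p
  have h' := beta_add M hM k p
  rw [FlatCxLib.fibreRank_congr (cokDbar M k) p] at h
  omega

theorem dbar_baseChange_injective (k : ℤ) (p : PrimeSpectrum A) (h0 : beta M p k = 0) :
    Function.Injective ((dbar M k).baseChange p.asIdeal.ResidueField) := by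
  have hM : ∀ j, Module.Finite A (M.X j) := fun j => Module.Finite.equiv (e j).symm
  have := hM k
  have := hM (k + 1)
  let g := (dbar M k).baseChange p.asIdeal.ResidueField
  have h1 := LinearMap.finrank_range_add_finrank_ker g
  have h2 := (LinearMap.range g).finrank_quotient_add_finrank
  rw [← FlatCxLib.finrank_coker_baseChange] at h2
  have h3 : fibreRank (M.X (k + 1) ⧸ LinearMap.range (dbar M k)) p = fibreRank (cok M (k + 1)) p :=
    FlatCxLib.fibreRank_congr (cokDbar M k) p
  have h4 := beta_add M hM k p
  rw [h0] at h4
  unfold FlatCxLib.fibreRank at h3 h4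
  rw [← LinearMap.ker_eq_bot, ← Submodule.finrank_eq_zero]
  change Module.finrank p.asIdeal.ResidueField (LinearMap.ker g) = 0
  omega

/-- Fibre cohomology in a single degree with constant rank forces the complex to split. -/
theorem homology_of_concentrated (a b : ℤ) (hv : ∀ k, k < a ∨ b < k → r k = 0) (i : ℤ) (n : ℕ)
    (h : ∀ (p : PrimeSpectrum A) (k : ℤ), beta M p k = if k = i then n else 0) :
    (∀ k, k ≠ i → Subsingleton (M.homology k)) ∧ Module.Projective A (M.homology i) ∧
      Module.Finite A (M.homology i) ∧ ∀ p : PrimeSpectrum A, fibreRank (M.homology i) p = n := by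
  have hM : ∀ j, Module.Finite A (M.X j) := fun j => Module.Finite.equiv (e j).symm
  have hfree : ∀ j, Module.Free A (M.X j) := fun j => Module.Free.of_equiv (e j).symm
  have hzero : ∀ k, k < a ∨ b < k → Subsingleton (cok M k) := fun k hk => by
    haveI : Subsingleton (M.X k) := by
      haveI : IsEmpty (Fin (r k)) := by rw [hv k hk]; infer_instance
      exact (e k).injective.subsingleton
    exact (Submodule.mkQ_surjective (LinearMap.range (M.d (k - 1) k).hom)).subsingleton
  have base : ∀ k, k < a ∨ b < k → Module.Projective A (cok M k) := fun k hk => by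
    haveI := hzero k hk
    infer_instance
  have up : ∀ k, min (a - 1) i ≤ k → k ≤ i → Module.Projective A (cok M k) := by
    intro k hk
    induction k, hk using Int.leInduction with
    | base => exact fun _ => base _ (Or.inl (by omega))
    | succ k hk ih =>
      intro hki
      haveI := ih (by omega)
      have := hM k
      have := hM (k + 1)
      haveI := hfree (k + 1)
      haveI := projective_coker (dbar M k) fun p => dbar_baseChange_injective M r e k p (by
        rw [h, if_neg (by omega)])
      exact Module.Projective.of_equiv (cokDbar M k)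
  have down : ∀ k, k ≤ max (b + 1) (i + 1) → i < k → Module.Projective A (cok M k) := by
    intro k hk
    induction k, hk using Int.leInductionDown with
    | base => exact fun _ => base _ (Or.inr (by omega))
    | pred k hk ih =>
      intro hki
      haveI : Module.Projective A (cok M (k - 1 + 1)) := by
        rw [sub_add_cancel]
        exact ih (by omega)
      obtain ⟨h1, -, h3, h4⟩ := dbar_split M r e (k - 1)
      haveI := h1
      refine h3 ?_
      haveI := subsingleton_of_fibreRank_eq_zero (A := A) (N := LinearMap.ker (dbar M (k - 1)))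
        fun p => by rw [h4, h, if_neg (by omega)]
      exact Submodule.eq_bot_of_subsingleton
  have proj : ∀ k, Module.Projective A (cok M (k + 1)) ∨ k < i := fun k => by
    rcases lt_or_ge k i with hk | hk
    · exact Or.inr hk
    · by_cases hb : b < k + 1
      · exact Or.inl (base _ (Or.inr hb))
      · exact Or.inl (down _ (by omega) (by omega))
  have hker : ∀ k, Module.Projective A (cok M (k + 1)) := fun k => by
    rcases proj k with hk | hk
    · exact hk
    · by_cases ha : k + 1 < a
      · exact base _ (Or.inl ha)
      · exact up _ (by omega) (by omega)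
  refine ⟨fun k hk => ?_, ?_⟩
  · haveI := hker k
    obtain ⟨h1, -, -, h4⟩ := dbar_split M r e k
    haveI := h1
    haveI := subsingleton_of_fibreRank_eq_zero (A := A) (N := LinearMap.ker (dbar M k))
      fun p => by rw [h4, h, if_neg hk]
    obtain ⟨c⟩ := nonempty_homology_ker M k
    exact c.injective.subsingleton
  · haveI := hker i
    obtain ⟨h1, h2, -, h4⟩ := dbar_split M r e i
    haveI := h1
    haveI := h2 (up i (by omega) le_rfl)
    obtain ⟨c⟩ := nonempty_homology_ker M i
    exact ⟨Module.Projective.of_equiv c.symm, Module.Finite.equiv c.symm,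
      fun p => by rw [FlatCxLib.fibreRank_congr c p, h4, h, if_pos rfl]⟩

end Groth.Agent.PerfFibreLib
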