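import Groth.Agent.PerfFibreLib.Single
import Groth.Agent.PerfFibreLib.Split
import Groth.Agent.MiscFlat6.TildeFin

/-!
# The locus where a perfect object is locally free in one degree
-/

set_option autoImplicit false
set_option backward.isDefEq.respectTransparency false
set_option backward.isDefEq.respectTransparency.types false
set_option maxHeartbeats 1000000

universe u

open CategoryTheory CategoryTheory.Limits AlgebraicGeometry Opposite HomologicalComplex

attribute [local instance] HasDerivedCategory.standard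

namespace Groth.Agent.PerfFibreLib

open Groth.Agent.PerfLib (resD resC res IAE)

/-- Cohomology sheaves of the sheafification of a complex of modules. -/
noncomputable def hdTilde {A : CommRingCat.{u}} (M : CochainComplex (ModuleCat.{u} A) ℤ) (k : ℤ) :
    DCoh.HD (DerivedCategory.Q.obj ((tC A).obj M)) k ≅ (tilde.functor A).obj (M.homology k) :=
  (DerivedCategory.homologyFunctorFactors (Spec A).Modules k).app _ ≪≫
    (show ((tC A).obj M).homology k ≅ (tilde.functor A).obj (M.homology k) from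
      (M.sc k).mapHomologyIso (tilde.functor A))

theorem beta_eq_zero {A : Type u} [CommRing A] (M : MCx A) (r : ℤ → ℕ)
    (e : ∀ k, M.X k ≃ₗ[A] (Fin (r k) → A)) (k : ℤ) (hk : r k = 0) (p : PrimeSpectrum A) :
    beta M p k = 0 := by
  haveI : Subsingleton (M.X k) := by
    haveI : IsEmpty (Fin (r k)) := by rw [hk]; infer_instance
    exact (e k).injective.subsingleton
  have hz : IsZero ((fib M p).X k) :=
    (ModuleCat.extendScalars (algebraMap A p.asIdeal.ResidueField)).map_isZero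
      (ModuleCat.isZero_of_subsingleton (M.X k))
  have hh : IsZero ((fib M p).homology k) := ((fib M p).exactAt_iff_isZero_homology k).1
    (ShortComplex.exact_of_isZero_X₂ _ hz)
  haveI := ModuleCat.subsingleton_of_isZero hh
  exact Module.finrank_zero_of_subsingleton

variable {X : Scheme.{u}}

/-- A perfect object has affine models inside every neighbourhood of a point. -/
theorem exists_model_within {E : DCoh.D X} (hE : DCoh.IsPerfect E) {x : X} (W₀ : X.Opens) (hx₀ : x ∈ W₀) :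
    ∃ (A : CommRingCat.{u}) (j : Spec A ⟶ X) (_ : IsOpenImmersion j) (p : PrimeSpectrum A)
      (M : CochainComplex (ModuleCat.{u} A) ℤ) (r : ℤ → ℕ) (a b : ℤ)
      (_ : DerivedCategory.Q.obj ((tC A).obj M) ≅ (resD j).obj E),
      j p = x ∧ Set.range j ⊆ (W₀ : Set X) ∧ (∀ i, i < a ∨ b < i → r i = 0) ∧
      (∀ i, Nonempty (M.X i ≃ₗ[A] (Fin (r i) → A))) := by
  obtain ⟨eK⟩ : Nonempty (DerivedCategory.Q.obj (DerivedCategory.Q.objPreimage E) ≅ E) :=
    ⟨DerivedCategory.Q.objObjPreimageIso E⟩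
  obtain ⟨U, hxU, E₀, a, b, hv, hf, ⟨e₀⟩⟩ :=
    PerfDualLib.exists_free_nbhd (Groth.Agent.PerfLib.isPerfect_of_iso eK.symm hE) x
  obtain ⟨V, hV, hxV, hVU⟩ := exists_isAffineOpen_mem_and_subset (U := U ⊓ W₀) ⟨hxU, hx₀⟩
  let j := hV.fromSpec
  have hr : Set.range j ⊆ Set.range U.ι := by
    rw [hV.range_fromSpec, Scheme.Opens.range_ι]
    exact fun y hy => (hVU hy).1
  let l := IsOpenImmersion.lift U.ι j hr
  have hl : l ≫ U.ι = j := IsOpenImmersion.lift_fac _ _ _
  haveI : IsOpenImmersion l := by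
    haveI : IsOpenImmersion (l ≫ U.ι) := by rw [hl]; infer_instance
    exact IsOpenImmersion.of_comp l U.ι
  have hn : ∀ i, ∃ n : ℕ, ((i < a ∨ b < i) → n = 0) ∧
      Nonempty (((resC l).obj E₀).X i ≅ FlatMod.freeMod (Spec Γ(X, V)) n) := fun i => by
    by_cases hi : i < a ∨ b < i
    · refine ⟨0, fun _ => rfl, ⟨IsZero.iso ((res l).map_isZero (hv i hi)) ?_⟩⟩
      exact (IsZero.iff_id_eq_zero _).mpr (Sigma.hom_ext _ _ fun k => k.elim0)
    · obtain ⟨n, hn⟩ := Groth.Agent.PerfLib.isFinFree_res l (hf i)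
      exact ⟨n, fun h => (hi h).elim, hn⟩
  choose r hr₀ hr₁ using hn
  obtain ⟨M, ⟨eM⟩, hMr⟩ := exists_tilde_model ((resC l).obj E₀) r hr₁
  obtain ⟨p, hp⟩ : x ∈ Set.range j := by rw [hV.range_fromSpec]; exact hxV
  obtain ⟨c⟩ := Groth.Agent.PerfLib.nonempty_resD_comp l U.ι E
  obtain ⟨c'⟩ := Groth.Agent.PerfLib.nonempty_resD_congr hl E
  refine ⟨_, j, inferInstance, p, M, r, a, b, DerivedCategory.Q.mapIso eM ≪≫
    (Groth.Agent.PerfLib.resDQIso l E₀).symm ≪≫ (resD l).mapIso (e₀ ≪≫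
      (Groth.Agent.PerfLib.resDQIso U.ι _).symm ≪≫ (resD U.ι).mapIso eK) ≪≫ c.symm ≪≫ c',
    hp, ?_, hr₀, hMr⟩
  rw [hV.range_fromSpec]
  exact fun y hy => (hVU hy).2

/-- Fibres at field valued points of an affine model. -/
theorem hTop_field {E : DCoh.D X} {A : CommRingCat.{u}} (j : Spec A ⟶ X) [IsOpenImmersion j]
    (M : CochainComplex (ModuleCat.{u} A) ℤ) (r : ℤ → ℕ) (a b : ℤ)
    (hr : ∀ i, i < a ∨ b < i → r i = 0) (hM : ∀ i, Nonempty (M.X i ≃ₗ[A] (Fin (r i) → A)))
    (α : DerivedCategory.Q.obj ((tC A).obj M) ≅ (resD j).obj E) (p : PrimeSpectrum A)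
    (K : Type u) [Field K] (g : Spec (CommRingCat.of K) ⟶ X) [DCoh.HasLpull g] (hg : ∀ z, g z = j p)
    (k : ℤ) : hTop ((DCoh.Lpull g).obj E) k = beta M p k := by
  have hgr : Set.range g ⊆ Set.range j := by
    rintro _ ⟨z, rfl⟩
    exact ⟨p, (hg z).symm⟩
  let h := IsOpenImmersion.lift j g hgr
  have hh : h ≫ j = g := IsOpenImmersion.lift_fac _ _ _
  let φ : A ⟶ CommRingCat.of K := Spec.preimage h
  have hφ : Spec.map (CommRingCat.ofHom φ.hom) = h := Spec.map_preimage h
  have hker : RingHom.ker φ.hom = p.asIdeal := by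
    have hq : h (⟨⊥, Ideal.isPrime_bot⟩ : PrimeSpectrum K) = p :=
      j.isOpenEmbedding.injective ((congrArg (fun m : Spec (CommRingCat.of K) ⟶ X =>
        m (⟨⊥, Ideal.isPrime_bot⟩ : PrimeSpectrum K)) hh).trans (hg _))
    rw [← hφ] at hq
    rw [← hq]
    rfl
  let G := Spec.map (CommRingCat.ofHom φ.hom)
  haveI := KFlatLib.hasLpull G
  haveI := KFlatLib.hasLpull j
  haveI := KFlatLib.hasLpull (G ≫ j)
  obtain ⟨c₂⟩ := KFlatLib.lpull_comp G j
  obtain ⟨c₃⟩ := nonempty_lpull_res j E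
  have h₄ : hTop ((DCoh.Lpull g).obj E) k = hTop ((DCoh.Lpull (G ≫ j)).obj E) k :=
    hTop_lpull_congr (show g = G ≫ j by rw [show G = h from hφ, hh]) E k
  refine h₄.trans ((hTop_iso (c₂.app E) k).symm.trans ?_)
  refine (hTop_iso ((DCoh.Lpull G).mapIso (c₃ ≪≫ α.symm)) k).trans ?_
  have hfl := KFlatLib.isKFlat_tilde (isKFlat_free M r b (fun i hi => hr i (Or.inr hi)) hM)
  refine (hTop_iso (KFlatLib.lpullObjIso G ((tC A).obj M) hfl ≪≫
    DerivedCategory.Q.mapIso ((LpullTildeLib.cxIso φ.hom).app M)) k).trans ?_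
  refine (hTop_tilde _ k).trans ?_
  letI : Algebra A K := φ.hom.toAlgebra
  exact finrank_homology_field M K (fun i => Module.Finite.equiv (hM i).some.symm) k p hker

theorem fromSpecResidueField_apply' (x : X) (z : Spec (X.residueField x)) :
    X.fromSpecResidueField x z = x := by
  have : X.fromSpecResidueField x z ∈ Set.range (X.fromSpecResidueField x) := ⟨z, rfl⟩
  rwa [Scheme.range_fromSpecResidueField] at this

theorem nonempty_lpull_congr {S : Scheme.{u}} {f f' : S ⟶ X} (h : f = f') [DCoh.HasLpull f]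
    [DCoh.HasLpull f'] (E : DCoh.D X) : Nonempty ((DCoh.Lpull f).obj E ≅ (DCoh.Lpull f').obj E) := by
  subst h
  exact ⟨Iso.refl _⟩

variable (E : DCoh.D X) (i : ℤ) (n : ℕ)

/-- The points where the fibre cohomology is of rank `n` in degree `i` and zero elsewhere. -/
def goodSet [∀ x : X, DCoh.HasLpull (X.fromSpecResidueField x)] : Set X :=
  {x | ∀ k : ℤ, PerfD.betti E x k = if k = i then n else 0}

variable [∀ x : X, DCoh.HasLpull (X.fromSpecResidueField x)] {E}

theorem betti_model {A : CommRingCat.{u}} (j : Spec A ⟶ X) [IsOpenImmersion j]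
    (M : CochainComplex (ModuleCat.{u} A) ℤ) (r : ℤ → ℕ) (a b : ℤ)
    (hr : ∀ i, i < a ∨ b < i → r i = 0) (hM : ∀ i, Nonempty (M.X i ≃ₗ[A] (Fin (r i) → A)))
    (α : DerivedCategory.Q.obj ((tC A).obj M) ≅ (resD j).obj E) (p : PrimeSpectrum A) (k : ℤ) :
    PerfD.betti E (j p) k = beta M p k :=
  betti_eq_beta E j M r a b hr hM α.hom (IAE.of_isIso _ (k - 1)) p k (by omega)

theorem isOpen_goodSet (hE : DCoh.IsPerfect E) : IsOpen (goodSet E i n) := by
  refine isOpen_iff_mem_nhds.2 fun x hx => ?_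
  obtain ⟨A, j, hj, p, M, r, a, b, α, hp, -, hr, hM⟩ := exists_model_within hE ⊤ (x := x) trivial
  subst hp
  let e := fun k => (hM k).some
  have key : ∀ q k, PerfD.betti E (j q) k = beta M q k := fun q k => betti_model j M r a b hr hM α q k
  have hev : ∀ᶠ q in nhds p, ∀ k ∈ Set.Icc a b, beta M q k ≤ beta M p k :=
    ((Set.finite_Icc a b).eventually_all).2 fun k _ => eventually_beta_le M r e p k
  refine Filter.mem_of_superset
    (j.isOpenEmbedding.isOpenMap.image_mem_nhds (Filter.eventually_iff.1 hev)) ?_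
  rintro _ ⟨q, hq, rfl⟩
  have h0 : ∀ k, k ≠ i → beta M p k = 0 := fun k hk => by rw [← key, hx k, if_neg hk]
  have h0' : ∀ k, k ≠ i → beta M q k = 0 := fun k hk => by
    by_cases hk' : k ∈ Set.Icc a b
    · exact Nat.le_zero.1 ((hq k hk').trans (h0 k hk).le)
    · exact beta_eq_zero M r e k (hr k (by simp only [Set.mem_Icc] at hk'; omega)) q
  intro k
  rw [key]
  split_ifs with hk
  · subst hk
    have h1 := euler_beta M r e a b hr p
    have h2 := euler_beta M r e a b hr q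
    rw [finsum_eq_single _ k (fun l hl => by rw [h0 l hl, Nat.cast_zero, mul_zero])] at h1
    rw [finsum_eq_single _ k (fun l hl => by rw [h0' l hl, Nat.cast_zero, mul_zero])] at h2
    have h3 := mul_left_cancel₀ (Units.ne_zero _) (h2.trans h1.symm)
    rw [Nat.cast_inj.1 h3, ← key, hx k, if_pos rfl]
  · exact h0' k hk

/-- On an open set of good points the object is a locally free module in one degree. -/
theorem exists_iso_on (hE : DCoh.IsPerfect E) (U : X.Opens) (hU : (U : Set X) = goodSet E i n) :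
    ∃ V : (U : Scheme.{u}).Modules, FlatMod.IsFinLocFreeOfRank n V ∧
      Nonempty ((resD U.ι).obj E ≅ (DerivedCategory.singleFunctor _ i).obj V) := by
  let F := (resD U.ι).obj E
  have hloc : ∀ y : (U : Scheme.{u}), ∃ (A : CommRingCat.{u}) (g : Spec A ⟶ (U : Scheme.{u}))
      (_ : IsOpenImmersion g), y ∈ Set.range g ∧
        (∀ k, k ≠ i → IsZero ((DCoh.HD F k).restrict g)) ∧
        FlatMod.IsFinLocFree ((DCoh.HD F i).restrict g) := by
    intro y
    obtain ⟨A, j, hj, p, M, r, a, b, α, hp, hsub, hr, hM⟩ := exists_model_within hE U (x := y.1) y.2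
    have hr' : Set.range j ⊆ Set.range U.ι := by
      rw [Scheme.Opens.range_ι]
      exact hsub
    let g := IsOpenImmersion.lift U.ι j hr'
    have hg : g ≫ U.ι = j := IsOpenImmersion.lift_fac _ _ _
    haveI : IsOpenImmersion g := by
      haveI : IsOpenImmersion (g ≫ U.ι) := by rw [hg]; infer_instance
      exact IsOpenImmersion.of_comp g U.ι
    obtain ⟨c⟩ := Groth.Agent.PerfLib.nonempty_resD_comp g U.ι E
    obtain ⟨c'⟩ := Groth.Agent.PerfLib.nonempty_resD_congr hg E
    have eH : ∀ k, (DCoh.HD F k).restrict g ≅ (tilde.functor A).obj (M.homology k) := fun k =>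
      (Groth.Agent.PerfLib.resHDIso g F k).symm ≪≫
        (DerivedCategory.homologyFunctor (Spec A).Modules k).mapIso (c.symm ≪≫ c' ≪≫ α.symm) ≪≫
        hdTilde M k
    have hb : ∀ (q : PrimeSpectrum A) (k : ℤ), beta M q k = if k = i then n else 0 := fun q k => by
      have hq : j q ∈ goodSet E i n := hU ▸ hsub ⟨q, rfl⟩
      rw [← betti_model j M r a b hr hM α q k]
      exact hq k
    obtain ⟨h0, h1, h2, -⟩ :=
      homology_of_concentrated M r (fun k => (hM k).some) a b hr i n hb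
    refine ⟨A, g, inferInstance, ⟨p, ?_⟩, fun k hk => ?_, ?_⟩
    · apply U.ι.isOpenEmbedding.injective
      exact (congrArg (fun m : Spec A ⟶ X => m p) hg).trans hp
    · haveI := h0 k hk
      exact ((tilde.functor A).map_isZero (ModuleCat.isZero_of_subsingleton _)).of_iso (eH k)
    · exact Groth.Agent.PerfLib.isFinLocFree_of_iso (eH i).symm
        ((MiscFlat6.isFinLocFree_iff _).2 ⟨h2, h1⟩)
  have hz : ∀ k, k ≠ i → IsZero (DCoh.HD F k) := fun k hk => isZero_of_openCover fun y => by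
    obtain ⟨A, g, hg, hy, h, -⟩ := hloc y
    exact ⟨_, g, hg, hy, h k hk⟩
  have hV : FlatMod.IsFinLocFree (DCoh.HD F i) := isFinLocFree_of_openCover fun y => by
    obtain ⟨A, g, hg, hy, -, h⟩ := hloc y
    exact ⟨_, g, hg, hy, h⟩
  haveI : F.IsGE i := (DerivedCategory.isGE_iff F i).2 fun k hk => hz k (by omega)
  haveI : F.IsLE i := (DerivedCategory.isLE_iff F i).2 fun k hk => hz k (by omega)
  obtain ⟨ψ⟩ := Groth.Agent.DerLib.Devissage.nonempty_iso_single F i
  refine ⟨DCoh.HD F i, fun y => ?_, ⟨ψ⟩⟩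
  obtain ⟨W, m, hyW, ⟨e⟩⟩ := hV y
  refine ⟨W, hyW, ?_⟩
  let g : Spec (CommRingCat.of ((U : Scheme.{u}).residueField y)) ⟶ (U : Scheme.{u}) :=
    (U : Scheme.{u}).fromSpecResidueField y
  have hgy : ∀ z, g z = y := fromSpecResidueField_apply' (X := (U : Scheme.{u})) y
  haveI := KFlatLib.hasLpull g
  haveI := KFlatLib.hasLpull U.ι
  haveI := KFlatLib.hasLpull (g ≫ U.ι)
  have h1 : hTop ((DCoh.Lpull g).obj F) i = m := by
    rw [hTop_lpull_single _ g F (DCoh.HD F i) hV i ψ W m e (fun z => by rw [hgy]; exact hyW) i, if_pos rfl]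
  obtain ⟨A, j, hj, p, M, r, a, b, α, hp, -, hr, hM⟩ := exists_model_within hE U (x := y.1) y.2
  obtain ⟨c⟩ := KFlatLib.lpull_comp g U.ι
  obtain ⟨c₃⟩ := nonempty_lpull_res U.ι E
  have h2 : hTop ((DCoh.Lpull g).obj F) i = beta M p i := by
    rw [← hTop_iso ((DCoh.Lpull g).mapIso c₃) i]
    refine (hTop_iso (c.app E) i).trans ?_
    exact hTop_field j M r a b hr hM α p _ (g ≫ U.ι) (fun z => by
      rw [hp]
      exact congrArg Subtype.val (hgy z)) i
  have h3 : beta M p i = n := by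
    have hy : y.1 ∈ goodSet E i n := hU ▸ y.2
    rw [← betti_model j M r a b hr hM α p i, hp, hy i, if_pos rfl]
  obtain rfl : m = n := h1.symm.trans (h2.trans h3)
  exact ⟨e⟩

theorem exists_open_locus (E : DCoh.D X) (hE : DCoh.IsPerfect E) :
    ∃ U : X.Opens, ∀ (Y : Scheme.{u}) (f : Y ⟶ X) [DCoh.HasLpull f],
      Set.range f.base ⊆ (U : Set X) ↔
        ∃ V : Y.Modules, FlatMod.IsFinLocFreeOfRank n V ∧
          Nonempty ((DCoh.Lpull f).obj E ≅ (DCoh.inD Y V)⟦-i⟧) := by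
  let U : X.Opens := ⟨goodSet E i n, isOpen_goodSet i n hE⟩
  refine ⟨U, fun Y f _ => ⟨fun hf => ?_, ?_⟩⟩
  · obtain ⟨V₀, hV₀, ⟨ψ⟩⟩ := exists_iso_on i n hE U rfl
    have hr : Set.range f ⊆ Set.range U.ι := by
      rw [Scheme.Opens.range_ι]
      exact hf
    let g := IsOpenImmersion.lift U.ι f hr
    have hg : g ≫ U.ι = f := IsOpenImmersion.lift_fac _ _ _
    haveI := KFlatLib.hasLpull g
    haveI := KFlatLib.hasLpull U.ι
    haveI := KFlatLib.hasLpull (g ≫ U.ι)
    obtain ⟨c⟩ := KFlatLib.lpull_comp g U.ι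
    obtain ⟨c₃⟩ := nonempty_lpull_res U.ι E
    have hfl : FlatMod.IsFinLocFree V₀ := fun y => let ⟨W, h⟩ := hV₀ y; ⟨W, n, h⟩
    obtain ⟨s⟩ := nonempty_lpull_single g V₀ hfl i
    obtain ⟨cf⟩ := nonempty_lpull_congr hg.symm E
    refine ⟨(Scheme.Modules.pullback g).obj V₀, fun y => ?_, ⟨cf ≪≫ (c.app E).symm ≪≫
      (DCoh.Lpull g).mapIso (c₃ ≪≫ ψ) ≪≫ s ≪≫ (shiftSingle _ i).symm⟩⟩
    obtain ⟨W, hW, ⟨e⟩⟩ := hV₀ (g y)
    exact ⟨g ⁻¹ᵁ W, hW, ⟨(KFlatLib.restrictPullIso g W).app V₀ ≪≫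
      (Scheme.Modules.pullback (g ∣_ W)).mapIso e ≪≫ KFlatLib.pullFreeIso (g ∣_ W) n⟩⟩
  · rintro ⟨V, hV, ⟨ψ⟩⟩ _ ⟨y, rfl⟩
    intro k
    obtain ⟨W, hyW, ⟨e⟩⟩ := hV y
    have hfl : FlatMod.IsFinLocFree V := fun z => let ⟨W, h⟩ := hV z; ⟨W, n, h⟩
    let g : Spec (CommRingCat.of (Y.residueField y)) ⟶ Y := Y.fromSpecResidueField y
    have hgy : ∀ z, g z = y := fromSpecResidueField_apply' (X := Y) y
    haveI := KFlatLib.hasLpull g
    haveI := KFlatLib.hasLpull (g ≫ f)
    obtain ⟨c⟩ := KFlatLib.lpull_comp g f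
    have h1 : hTop ((DCoh.Lpull g).obj ((DCoh.Lpull f).obj E)) k = if k = i then n else 0 :=
      hTop_lpull_single _ g _ V hfl i (ψ ≪≫ shiftSingle V i) W n e
        (fun z => by rw [hgy]; exact hyW) k
    obtain ⟨A, j, hj, p, M, r, a, b, α, hp, -, hr, hM⟩ := exists_model_within hE ⊤ (x := f y) trivial
    have h2 : hTop ((DCoh.Lpull g).obj ((DCoh.Lpull f).obj E)) k = beta M p k := by
      refine (hTop_iso (c.app E) k).trans ?_
      exact hTop_field j M r a b hr hM α p _ (g ≫ f) (fun z => by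
        rw [hp]
        exact congrArg (fun w => f w) (hgy z)) k
    rw [← betti_model j M r a b hr hM α p k, hp] at h2
    exact h2.symm.trans h1

end Groth.Agent.PerfFibreLib
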