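import Groth.Agent.KFlatLib.QCohTerms
import Groth.Agent.KFlatLib.LpullComp
import Groth.Agent.LpullTildeLib.Main
import Groth.Agent.PerfLib.Coherent
import Groth.Agent.KFlatLib.PerfectPull
import Groth.Prelude.Def_PerfD

/-!
# Dimensions of global sections of cohomology sheaves
-/

set_option autoImplicit false
set_option backward.isDefEq.respectTransparency false
set_option backward.isDefEq.respectTransparency.types false

universe u

open CategoryTheory CategoryTheory.Limits AlgebraicGeometry Opposite HomologicalComplex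

attribute [local instance] HasDerivedCategory.standard

namespace Groth.Agent.PerfFibreLib

variable {S S' : Scheme.{u}}

/-- The rank of the global sections of a module. -/
noncomputable def topRank (M : S.Modules) : ℕ :=
  Module.finrank (Coh.Γtop S) (M.val.obj (op ⊤))

/-- The rank of the global sections of the `i`-th cohomology sheaf. -/
noncomputable def hTop (F : DCoh.D S) (i : ℤ) : ℕ := topRank (DCoh.HD F i)

theorem betti_eq (E : DCoh.D S) (x : S) [DCoh.HasLpull (S.fromSpecResidueField x)] (i : ℤ) :
    PerfD.betti E x i = hTop ((DCoh.Lpull (S.fromSpecResidueField x)).obj E) i := rfl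

theorem topRank_iso {M N : S.Modules} (e : M ≅ N) : topRank M = topRank N :=
  (((SheafOfModules.evaluation S.ringCatSheaf (op ⊤)).mapIso e).toLinearEquiv).finrank_eq

theorem hTop_iso {F F' : DCoh.D S} (e : F ≅ F') (i : ℤ) : hTop F i = hTop F' i :=
  topRank_iso ((DerivedCategory.homologyFunctor S.Modules i).mapIso e)

theorem topRank_restrict (e : S' ⟶ S) [IsIso e] (M : S.Modules) :
    topRank (M.restrict e) = topRank M := by
  have he : e ''ᵁ (⊤ : S'.Opens) = ⊤ :=
    TopologicalSpace.Opens.ext ((Set.image_univ).trans (Scheme.homeoOfIso (asIso e)).surjective.range_eq)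
  let r : Γ(S', ⊤) → Γ(S, ⊤) := fun t =>
    S.presheaf.map (eqToHom he.symm).op ((e.appIso ⊤).inv t)
  let j : Γ(M.restrict e, ⊤) ≃+ Γ(M, ⊤) :=
    ((M.restrictAppIso e ⊤) ≪≫ M.presheaf.mapIso (eqToIso he.symm).op).addCommGroupIsoToAddEquiv
  have hr : Function.Bijective r := by
    have h1 := ConcreteCategory.bijective_of_isIso ((e.appIso ⊤).inv)
    have h2 := ConcreteCategory.bijective_of_isIso (S.presheaf.map (eqToHom he.symm).op)
    exact h2.comp h1
  refine congrArg Cardinal.toNat (rank_eq_of_equiv_equiv r j hr fun t m => ?_)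
  exact (congrArg (M.presheaf.map (eqToHom he.symm).op)
    (Scheme.Modules.smul_restrictAppIso_hom_apply e M ⊤ t m)).trans
      (M.val.map_smul (eqToHom he.symm).op _ _)

theorem hTop_restrict (e : S' ⟶ S) [IsIso e] (F : DCoh.D S) (i : ℤ) :
    hTop ((Groth.Agent.PerfLib.resD e).obj F) i = hTop F i :=
  (topRank_iso (Groth.Agent.PerfLib.resHDIso e F i)).trans
    (topRank_restrict e _)

theorem topRank_tilde {R : CommRingCat.{u}} (N : ModuleCat.{u} R) :
    topRank ((tilde.functor R).obj N) = Module.finrank R N := by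
  let j := (tilde.isoTop N).toLinearEquiv
  let j' : N ≃+ Γ(tilde N, ⊤) := j.toAddEquiv
  refine congrArg Cardinal.toNat (rank_eq_of_equiv_equiv (Scheme.ΓSpecIso R).inv j'
    (ConcreteCategory.bijective_of_isIso _) fun t m => ?_).symm
  refine (show j' (t • m) = (t • j' m : Γ(tilde N, ⊤)) from j.map_smul t m).trans
    ((Scheme.Modules.smul_Spec_def (M := tilde N) (U := ⊤) t (j' m)).trans ?_)
  exact congrArg (fun r : Γ(Spec R, ⊤) => r • j' m)
    (ConcreteCategory.congr_hom ((Spec R).presheaf.map_id (op ⊤)) _)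

theorem hTop_tilde {R : CommRingCat.{u}} (N : CochainComplex (ModuleCat.{u} R) ℤ) (i : ℤ) :
    hTop (DerivedCategory.Q.obj (((tilde.functor R).mapHomologicalComplex (ComplexShape.up ℤ)).obj N)) i =
      Module.finrank R (N.homology i) :=
  ((topRank_iso ((DerivedCategory.homologyFunctorFactors (Spec R).Modules i).app _)).trans
    (topRank_iso (show (((tilde.functor R).mapHomologicalComplex (ComplexShape.up ℤ)).obj N).homology i ≅
      (tilde.functor R).obj (N.homology i) from (N.sc i).mapHomologyIso (tilde.functor R)))).trans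
    (topRank_tilde _)

/-- Derived pullback along an open immersion is restriction. -/
theorem nonempty_lpull_res (j : S' ⟶ S) [IsOpenImmersion j] [DCoh.HasLpull j] (F : DCoh.D S) :
    Nonempty ((DCoh.Lpull j).obj F ≅ (Groth.Agent.PerfLib.resD j).obj F) := by
  obtain ⟨P, hP, ⟨e⟩⟩ := KFlatLib.exists_good_rep F
  exact ⟨(DCoh.Lpull j).mapIso e.symm ≪≫ KFlatLib.lpullObjIso j P hP.1 ≪≫
    DerivedCategory.Q.mapIso (show (KFlatLib.pullCx j).obj P ≅ (Groth.Agent.PerfLib.resC j).obj P from
      HomologicalComplex.Hom.isoOfComponents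
      (fun n => ((Scheme.Modules.restrictFunctorIsoPullback j).app (P.X n)).symm)
      (fun a b _ => ((Scheme.Modules.restrictFunctorIsoPullback j).inv.naturality (P.d a b)).symm)) ≪≫
    (Groth.Agent.PerfLib.resDQIso j P).symm ≪≫ (Groth.Agent.PerfLib.resD j).mapIso e⟩

theorem hTop_lpull_iso (e : S' ⟶ S) [IsIso e] [DCoh.HasLpull e] (F : DCoh.D S) (i : ℤ) :
    hTop ((DCoh.Lpull e).obj F) i = hTop F i := by
  obtain ⟨c⟩ := nonempty_lpull_res e F
  exact (hTop_iso c i).trans (hTop_restrict e F i)

end Groth.Agent.PerfFibreLib
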