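import Groth.Agent.PerfFibreLib.Model
import Groth.Agent.DerLib.Devissage

/-!
# Fibres of a locally free module placed in one degree
-/

set_option autoImplicit false
set_option backward.isDefEq.respectTransparency false
set_option backward.isDefEq.respectTransparency.types false
set_option maxHeartbeats 1000000

universe u

open CategoryTheory CategoryTheory.Limits AlgebraicGeometry Opposite HomologicalComplex

attribute [local instance] HasDerivedCategory.standard

namespace Groth.Agent.PerfFibreLib

open Groth.Agent.PerfLib (resD resC res)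

variable {X Y S : Scheme.{u}}

theorem topRank_freeMod (R : CommRingCat.{u}) [Nontrivial R] (n : ℕ) :
    topRank (FlatMod.freeMod (Spec R) n) = n := by
  let f : Fin n → ModuleCat.{u} R := fun _ => ModuleCat.of R R
  let θ : (tilde.functor R).obj (∐ f) ≅ FlatMod.freeMod (Spec R) n :=
    PreservesCoproduct.iso (tilde.functor R) f ≪≫ Sigma.mapIso fun _ => tildeSelf
  rw [← topRank_iso θ, topRank_tilde,
    ((biproduct.isoCoproduct.{0, u} f).symm ≪≫ ModuleCat.biproductIsoPi f).toLinearEquiv.finrank_eq]
  exact (Module.finrank_pi R).trans (Fintype.card_fin n)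

theorem topRank_isZero (R : CommRingCat.{u}) [Nontrivial R] {M : (Spec R).Modules} (h : IsZero M) :
    topRank M = 0 :=
  (topRank_iso (IsZero.iso h
    ((IsZero.iff_id_eq_zero _).mpr (Sigma.hom_ext _ _ fun k => k.elim0)))).trans (topRank_freeMod R 0)

/-- A module free along an open immersion is free on its image. -/
theorem exists_free_range (g : Y ⟶ X) [IsOpenImmersion g] (M : X.Modules) (n : ℕ)
    (e : M.restrict g ≅ FlatMod.freeMod Y n) :
    Nonempty (M.restrict g.opensRange.ι ≅ FlatMod.freeMod (g.opensRange : Scheme.{u}) n) := by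
  let i := g.isoOpensRange.inv
  have hi : i ≫ g = g.opensRange.ι := Scheme.Hom.isoOpensRange_inv_comp g
  exact ⟨(Scheme.Modules.restrictFunctorCongr hi.symm).app M ≪≫
    (Scheme.Modules.restrictFunctorComp i g).app M ≪≫ (res i).mapIso e ≪≫
    (Scheme.Modules.restrictFunctorIsoPullback i).app _ ≪≫ KFlatLib.pullFreeIso i n⟩

/-- Finite local freeness is local for open immersions. -/
theorem isFinLocFree_of_openCover {M : X.Modules}
    (h : ∀ x : X, ∃ (Y : Scheme.{u}) (g : Y ⟶ X) (_ : IsOpenImmersion g),
      x ∈ Set.range g ∧ FlatMod.IsFinLocFree (M.restrict g)) : FlatMod.IsFinLocFree M := by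
  intro x
  obtain ⟨Y, g, hg, ⟨y, hy⟩, hM⟩ := h x
  obtain ⟨O, n, hyO, ⟨e⟩⟩ := hM y
  obtain ⟨e'⟩ := exists_free_range (O.ι ≫ g) M n
    ((Scheme.Modules.restrictFunctorComp O.ι g).app M ≪≫ e)
  exact ⟨(O.ι ≫ g).opensRange, n, ⟨⟨y, hyO⟩, hy⟩, ⟨e'⟩⟩

/-- Vanishing is local for open immersions. -/
theorem isZero_of_openCover {M : X.Modules}
    (h : ∀ x : X, ∃ (Y : Scheme.{u}) (g : Y ⟶ X) (_ : IsOpenImmersion g),
      x ∈ Set.range g ∧ IsZero (M.restrict g)) : IsZero M := by
  refine Groth.Agent.PerfLib.isZero_of_cover fun x => ?_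
  obtain ⟨Y, g, hg, hx, hM⟩ := h x
  let i := g.isoOpensRange.inv
  have hi : i ≫ g = g.opensRange.ι := Scheme.Hom.isoOpensRange_inv_comp g
  exact ⟨g.opensRange, hx, ((res i).map_isZero hM).of_iso
    ((Scheme.Modules.restrictFunctorCongr hi.symm).app M ≪≫
      (Scheme.Modules.restrictFunctorComp i g).app M)⟩

/-- The pullback to a field of a locally free module is free of the local rank. -/
theorem topRank_pullback (K : Type u) [Field K] (g : Spec (CommRingCat.of K) ⟶ X) (V : X.Modules)
    (W : X.Opens) (n : ℕ) (e : V.restrict W.ι ≅ FlatMod.freeMod (W : Scheme.{u}) n) (hg : ∀ z, g z ∈ W) :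
    topRank ((Scheme.Modules.pullback g).obj V) = n := by
  have hr : Set.range g ⊆ Set.range W.ι := by
    rw [Scheme.Opens.range_ι]
    rintro _ ⟨z, rfl⟩
    exact hg z
  let g' := IsOpenImmersion.lift W.ι g hr
  have hg' : g' ≫ W.ι = g := IsOpenImmersion.lift_fac _ _ _
  rw [topRank_iso ((Scheme.Modules.pullbackCongr hg'.symm).app V ≪≫
    (Scheme.Modules.pullbackComp g' W.ι).symm.app V ≪≫
    (Scheme.Modules.pullback g').mapIso ((Scheme.Modules.restrictFunctorIsoPullback W.ι).symm.app V ≪≫ e) ≪≫
    KFlatLib.pullFreeIso g' n)]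
  exact topRank_freeMod _ n

/-- Derived pullback of a locally free module in one degree. -/
theorem nonempty_lpull_single (g : Y ⟶ X) [DCoh.HasLpull g] (V : X.Modules) (hV : FlatMod.IsFinLocFree V)
    (i : ℤ) :
    Nonempty ((DCoh.Lpull g).obj ((DerivedCategory.singleFunctor X.Modules i).obj V) ≅
      (DerivedCategory.singleFunctor Y.Modules i).obj ((Scheme.Modules.pullback g).obj V)) := by
  have hK : DCoh.IsKFlat ((CochainComplex.singleFunctor X.Modules i).obj V) := by
    refine KFlatLib.isKFlat_of_bounded_flat_mod _ i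
      (fun j hj => HomologicalComplex.isZero_single_obj_X _ _ _ _ (by omega)) fun j => ?_
    refine KFlatLib.isFlat_of_isFinLocFree ?_
    by_cases hj : j = i
    · subst hj
      exact Groth.Agent.PerfLib.isFinLocFree_of_iso (HomologicalComplex.singleObjXSelf _ _ _).symm hV
    · intro x
      refine ⟨⊤, 0, trivial, ⟨IsZero.iso ((res _).map_isZero
        (HomologicalComplex.isZero_single_obj_X _ _ _ _ hj)) ?_⟩⟩
      exact (IsZero.iff_id_eq_zero _).mpr (Sigma.hom_ext _ _ fun k => k.elim0)
  exact ⟨(DCoh.Lpull g).mapIso ((DerivedCategory.singleFunctorIsoCompQ X.Modules i).app V) ≪≫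
    KFlatLib.lpullObjIso g _ hK ≪≫
    DerivedCategory.Q.mapIso
      ((HomologicalComplex.singleMapHomologicalComplex (Scheme.Modules.pullback g) _ i).app V) ≪≫
    ((DerivedCategory.singleFunctorIsoCompQ Y.Modules i).app _).symm⟩

theorem hTop_single (R : CommRingCat.{u}) [Nontrivial R] (M : (Spec R).Modules) (i k : ℤ) :
    hTop ((DerivedCategory.singleFunctor (Spec R).Modules i).obj M) k = if k = i then topRank M else 0 := by
  split_ifs with hk
  · subst hk
    exact topRank_iso ((DerivedCategory.singleFunctorCompHomologyFunctorIso (Spec R).Modules k).app M)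
  · refine topRank_isZero R ?_
    rcases lt_or_gt_of_ne hk with h | h
    · exact DerivedCategory.isZero_of_isGE _ i k h
    · exact DerivedCategory.isZero_of_isLE _ i k h

/-- The shifted module as an object concentrated in one degree. -/
noncomputable def shiftSingle (V : S.Modules) (i : ℤ) :
    (DCoh.inD S V)⟦-i⟧ ≅ (DerivedCategory.singleFunctor S.Modules i).obj V :=
  ((DerivedCategory.singleFunctors S.Modules).shiftIso (-i) i 0 (neg_add_cancel i)).app V

/-- Fibre ranks of a locally free module in one degree. -/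
theorem hTop_lpull_single (K : Type u) [Field K] (g : Spec (CommRingCat.of K) ⟶ X) [DCoh.HasLpull g]
    (F : DCoh.D X) (V : X.Modules) (hV : FlatMod.IsFinLocFree V) (i : ℤ)
    (ψ : F ≅ (DerivedCategory.singleFunctor X.Modules i).obj V)
    (W : X.Opens) (n : ℕ) (e : V.restrict W.ι ≅ FlatMod.freeMod (W : Scheme.{u}) n) (hg : ∀ z, g z ∈ W)
    (k : ℤ) : hTop ((DCoh.Lpull g).obj F) k = if k = i then n else 0 := by
  obtain ⟨c⟩ := nonempty_lpull_single g V hV i
  rw [hTop_iso ((DCoh.Lpull g).mapIso ψ ≪≫ c) k, hTop_single, topRank_pullback K g V W n e hg]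

end Groth.Agent.PerfFibreLib
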