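import Groth.Agent.PerfFibreLib.Rank
import Groth.Agent.PerfFibreLib.Spec
import Groth.Agent.PerfDualLib.PseudoC
import Groth.Agent.KFlatLib.PCohPull
import Mathlib.Algebra.Category.ModuleCat.Biproducts

/-!
# Affine models of perfect and pseudo-coherent objects, and their fibres
-/

set_option autoImplicit false
set_option backward.isDefEq.respectTransparency false
set_option backward.isDefEq.respectTransparency.types false
set_option maxHeartbeats 1000000

universe u

open CategoryTheory CategoryTheory.Limits AlgebraicGeometry Opposite HomologicalComplex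

attribute [local instance] HasDerivedCategory.standard

namespace Groth.Agent.PerfFibreLib

open Groth.Agent.PerfLib (resD resC res IAE)

section Free

variable {R : CommRingCat.{u}}

/-- `tilde` of complexes. -/
noncomputable abbrev tC (R : CommRingCat.{u}) :
    CochainComplex (ModuleCat.{u} R) ℤ ⥤ CochainComplex (Spec R).Modules ℤ :=
  (tilde.functor R).mapHomologicalComplex (ComplexShape.up ℤ)

theorem exists_linearEquiv_of_free {n : ℕ} {M : (Spec R).Modules}
    (e : M ≅ FlatMod.freeMod (Spec R) n) :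
    Nonempty ((moduleSpecΓFunctor (R := R)).obj M ≃ₗ[R] (Fin n → R)) := by
  let f : Fin n → ModuleCat.{u} R := fun _ => ModuleCat.of R R
  let θ : (tilde.functor R).obj (∐ f) ≅ FlatMod.freeMod (Spec R) n :=
    PreservesCoproduct.iso (tilde.functor R) f ≪≫ Sigma.mapIso fun _ => tildeSelf
  exact ⟨((moduleSpecΓFunctor (R := R)).mapIso (e ≪≫ θ.symm) ≪≫
    (tilde.toTildeΓNatIso.app (∐ f)).symm ≪≫ (biproduct.isoCoproduct f).symm ≪≫
    ModuleCat.biproductIsoPi f).toLinearEquiv⟩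

/-- A complex of free modules on an affine spectrum is the tilde of a complex of free modules. -/
theorem exists_tilde_model (E : CochainComplex (Spec R).Modules ℤ) (r : ℤ → ℕ)
    (hE : ∀ i, Nonempty (E.X i ≅ FlatMod.freeMod (Spec R) (r i))) :
    ∃ M : CochainComplex (ModuleCat.{u} R) ℤ, Nonempty ((tC R).obj M ≅ E) ∧
      ∀ i, Nonempty (M.X i ≃ₗ[R] (Fin (r i) → R)) := by
  let G := moduleSpecΓFunctor (R := R)
  haveI : G.Additive := (tilde.adjunction (R := R)).right_adjoint_additive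
  have hq : ∀ i, IsIso ((tilde.adjunction (R := R)).counit.app (E.X i)) := fun i => by
    obtain ⟨e⟩ := hE i
    haveI : Coh.IsQCoh (FlatMod.freeMod (Spec R) (r i)) :=
      QCohLib.isQCoh_of_isColimit (fun _ => inferInstance) (fun _ => QCohLib.isQCoh_unit)
        (colimit.isColimit _)
    exact KFlatLib.isIso_counit_of_qcoh _ (QCohLib.isQCoh_of_iso e.symm)
  refine ⟨(G.mapHomologicalComplex (ComplexShape.up ℤ)).obj E,
    ⟨HomologicalComplex.Hom.isoOfComponents
      (fun i => @asIso _ _ _ _ ((tilde.adjunction (R := R)).counit.app (E.X i)) (hq i))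
      (fun i j _ => ((tilde.adjunction (R := R)).counit.naturality (E.d i j)).symm)⟩, fun i => ?_⟩
  obtain ⟨e⟩ := hE i
  exact exists_linearEquiv_of_free e

end Free

variable {X : Scheme.{u}}

/-- An affine model near a point. -/
theorem exists_affine_model {U : X.Opens} {x : X} (hx : x ∈ U)
    (E₀ : CochainComplex (U : Scheme.{u}).Modules ℤ) (a b : ℤ)
    (hv : ∀ i, i < a ∨ b < i → IsZero (E₀.X i)) (hf : ∀ i, KFlatLib.IsFinFree (E₀.X i)) :
    ∃ (A : CommRingCat.{u}) (j : Spec A ⟶ X) (l : Spec A ⟶ (U : Scheme.{u})) (_ : IsOpenImmersion j)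
      (_ : IsOpenImmersion l) (p : PrimeSpectrum A) (M : CochainComplex (ModuleCat.{u} A) ℤ)
      (r : ℤ → ℕ), l ≫ U.ι = j ∧ j p = x ∧ (∀ i, i < a ∨ b < i → r i = 0) ∧
        (∀ i, Nonempty (M.X i ≃ₗ[A] (Fin (r i) → A))) ∧
        Nonempty ((tC A).obj M ≅ (resC l).obj E₀) := by
  obtain ⟨V, hV, hxV, hVU⟩ := exists_isAffineOpen_mem_and_subset hx
  let j := hV.fromSpec
  have hr : Set.range j ⊆ Set.range U.ι := by
    rw [hV.range_fromSpec, Scheme.Opens.range_ι]
    exact hVU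
  let l := IsOpenImmersion.lift U.ι j hr
  have hl : l ≫ U.ι = j := IsOpenImmersion.lift_fac _ _ _
  haveI : IsOpenImmersion l := by
    haveI : IsOpenImmersion (l ≫ U.ι) := by rw [hl]; infer_instance
    exact IsOpenImmersion.of_comp l U.ι
  have hn : ∀ i, ∃ n : ℕ, ((i < a ∨ b < i) → n = 0) ∧
      Nonempty (((resC l).obj E₀).X i ≅ FlatMod.freeMod (Spec Γ(X, V)) n) := fun i => by
    by_cases hi : i < a ∨ b < i
    · refine ⟨0, fun _ => rfl, ⟨IsZero.iso ((res l).map_isZero (hv i hi)) ?_⟩⟩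
      exact (IsZero.iff_id_eq_zero _).mpr (Sigma.hom_ext _ _ fun k => k.elim0)
    · obtain ⟨n, hn⟩ := Groth.Agent.PerfLib.isFinFree_res l (hf i)
      exact ⟨n, fun h => (hi h).elim, hn⟩
  choose r hr₀ hr₁ using hn
  obtain ⟨M, hM, hMr⟩ := exists_tilde_model ((resC l).obj E₀) r hr₁
  obtain ⟨p, hp⟩ : x ∈ Set.range j := by rw [hV.range_fromSpec]; exact hxV
  exact ⟨_, j, l, inferInstance, inferInstance, p, M, r, hl, hp, hr₀, hMr, hM⟩

/-- A pseudo-coherent object has an affine model near every point. -/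
theorem exists_model_pc {E : DCoh.D X} {m : ℤ} (hE : DCoh.IsPseudoCoherentD m E) (x : X) :
    ∃ (A : CommRingCat.{u}) (j : Spec A ⟶ X) (_ : IsOpenImmersion j) (p : PrimeSpectrum A)
      (M : CochainComplex (ModuleCat.{u} A) ℤ) (r : ℤ → ℕ) (a b : ℤ)
      (α : DerivedCategory.Q.obj ((tC A).obj M) ⟶ (resD j).obj E),
      j p = x ∧ (∀ i, i < a ∨ b < i → r i = 0) ∧
      (∀ i, Nonempty (M.X i ≃ₗ[A] (Fin (r i) → A))) ∧ IAE α m := by
  obtain ⟨eK⟩ : Nonempty (DerivedCategory.Q.obj (DerivedCategory.Q.objPreimage E) ≅ E) :=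
    ⟨DerivedCategory.Q.objObjPreimageIso E⟩
  obtain ⟨U, hx, E₀, a, b, α₀, hv, hf, hα⟩ :=
    PerfDualLib.exists_free_approx (Groth.Agent.PerfLib.isPC_of_iso eK.symm hE) x
  obtain ⟨A, j, l, hj, hl', p, M, r, hl, hp, hr, hM, ⟨eM⟩⟩ := exists_affine_model hx E₀ a b hv hf
  obtain ⟨c⟩ := Groth.Agent.PerfLib.nonempty_resD_comp l U.ι E
  obtain ⟨c'⟩ := Groth.Agent.PerfLib.nonempty_resD_congr hl E
  let β : DerivedCategory.Q.obj E₀ ⟶ (resD U.ι).obj E :=
    α₀ ≫ (Groth.Agent.PerfLib.resDQIso U.ι _).inv ≫ (resD U.ι).map eK.hom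
  have hβ : IAE β m := hα.comp ((IAE.of_isIso _ m).comp (IAE.of_isIso _ m))
  refine ⟨A, j, hj, p, M, r, a, b, DerivedCategory.Q.map eM.hom ≫
    (Groth.Agent.PerfLib.resDQIso l E₀).inv ≫ (resD l).map β ≫ c.inv ≫ c'.hom, hp, hr, hM, ?_⟩
  exact (IAE.of_isIso _ m).comp ((IAE.of_isIso _ m).comp ((hβ.map (res l)).comp
    ((IAE.of_isIso _ m).comp (IAE.of_isIso _ m))))

/-- A perfect object has an affine model near every point. -/
theorem exists_model_perfect {E : DCoh.D X} (hE : DCoh.IsPerfect E) (x : X) :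
    ∃ (A : CommRingCat.{u}) (j : Spec A ⟶ X) (_ : IsOpenImmersion j) (p : PrimeSpectrum A)
      (M : CochainComplex (ModuleCat.{u} A) ℤ) (r : ℤ → ℕ) (a b : ℤ)
      (α : DerivedCategory.Q.obj ((tC A).obj M) ≅ (resD j).obj E),
      j p = x ∧ (∀ i, i < a ∨ b < i → r i = 0) ∧
      (∀ i, Nonempty (M.X i ≃ₗ[A] (Fin (r i) → A))) := by
  obtain ⟨eK⟩ : Nonempty (DerivedCategory.Q.obj (DerivedCategory.Q.objPreimage E) ≅ E) :=
    ⟨DerivedCategory.Q.objObjPreimageIso E⟩
  obtain ⟨U, hx, E₀, a, b, hv, hf, ⟨e₀⟩⟩ :=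
    PerfDualLib.exists_free_nbhd (Groth.Agent.PerfLib.isPerfect_of_iso eK.symm hE) x
  obtain ⟨A, j, l, hj, hl', p, M, r, hl, hp, hr, hM, ⟨eM⟩⟩ := exists_affine_model hx E₀ a b hv hf
  obtain ⟨c⟩ := Groth.Agent.PerfLib.nonempty_resD_comp l U.ι E
  obtain ⟨c'⟩ := Groth.Agent.PerfLib.nonempty_resD_congr hl E
  exact ⟨A, j, hj, p, M, r, a, b, DerivedCategory.Q.mapIso eM ≪≫
    (Groth.Agent.PerfLib.resDQIso l E₀).symm ≪≫ (resD l).mapIso (e₀ ≪≫
      (Groth.Agent.PerfLib.resDQIso U.ι _).symm ≪≫ (resD U.ι).mapIso eK) ≪≫ c.symm ≪≫ c',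
    hp, hr, hM⟩

theorem isKFlat_free {A : Type u} [CommRing A] (M : CochainComplex (ModuleCat.{u} A) ℤ) (r : ℤ → ℕ)
    (b : ℤ) (hr : ∀ i, b < i → r i = 0) (hM : ∀ i, Nonempty (M.X i ≃ₗ[A] (Fin (r i) → A))) :
    DRing.IsKFlat A M := by
  refine KFlatLib.isKFlat_of_bounded_flat M b (fun i hi => ?_) fun i => ?_
  · obtain ⟨e⟩ := hM i
    haveI : IsEmpty (Fin (r i)) := by rw [hr i hi]; infer_instance
    haveI : Subsingleton (M.X i) := e.injective.subsingleton
    exact ModuleCat.isZero_of_subsingleton _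
  · obtain ⟨e⟩ := hM i
    exact Module.Flat.of_linearEquiv e

theorem hTop_lpull_congr {S : Scheme.{u}} {f f' : S ⟶ X} (h : f = f') [DCoh.HasLpull f]
    [DCoh.HasLpull f'] (E : DCoh.D X) (i : ℤ) :
    hTop ((DCoh.Lpull f).obj E) i = hTop ((DCoh.Lpull f').obj E) i := by
  subst h
  rfl

/-- The Betti numbers on an affine model. -/
theorem betti_eq_beta [∀ x : X, DCoh.HasLpull (X.fromSpecResidueField x)] (E : DCoh.D X)
    {A : CommRingCat.{u}} (j : Spec A ⟶ X) [IsOpenImmersion j]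
    (M : CochainComplex (ModuleCat.{u} A) ℤ) (r : ℤ → ℕ) (a b : ℤ)
    (hr : ∀ i, i < a ∨ b < i → r i = 0) (hM : ∀ i, Nonempty (M.X i ≃ₗ[A] (Fin (r i) → A))) {m : ℤ}
    (α : DerivedCategory.Q.obj ((tC A).obj M) ⟶ (resD j).obj E) (hα : IAE α m)
    (p : PrimeSpectrum A) (i : ℤ) (hi : m < i) :
    PerfD.betti E (j p) i = beta M p i := by
  let φ : A →+* p.asIdeal.ResidueField := algebraMap A p.asIdeal.ResidueField
  let g := Spec.map (CommRingCat.ofHom φ)
  let e : Spec (CommRingCat.of p.asIdeal.ResidueField) ⟶ Spec (X.residueField (j p)) :=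
    Spec.map (Scheme.Spec.residueFieldIso A p).hom ≫ Spec.map (j.residueFieldMap p)
  have he : e ≫ X.fromSpecResidueField (j p) = g ≫ j := by
    simp only [e, g, φ, Category.assoc]
    rw [Scheme.Hom.SpecMap_residueFieldMap_fromSpecResidueField, ← Category.assoc,
      ← Scheme.Spec.map_residueFieldIso_inv_eq_fromSpecResidueField, ← Category.assoc,
      ← Spec.map_comp (Scheme.Spec.residueFieldIso A p).inv, Iso.inv_hom_id, Spec.map_id,
      Category.id_comp]
  haveI := KFlatLib.hasLpull e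
  haveI := KFlatLib.hasLpull g
  haveI := KFlatLib.hasLpull j
  haveI := KFlatLib.hasLpull (g ≫ j)
  haveI := KFlatLib.hasLpull (e ≫ X.fromSpecResidueField (j p))
  obtain ⟨c₁⟩ := KFlatLib.lpull_comp e (X.fromSpecResidueField (j p))
  obtain ⟨c₂⟩ := KFlatLib.lpull_comp g j
  obtain ⟨c₃⟩ := nonempty_lpull_res j E
  rw [betti_eq, ← hTop_lpull_iso e]
  refine (hTop_iso (c₁.app E) i).trans ?_
  have h₄ : hTop ((DCoh.Lpull (e ≫ X.fromSpecResidueField (j p))).obj E) i =
      hTop ((DCoh.Lpull (g ≫ j)).obj E) i := hTop_lpull_congr he E i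
  refine h₄.trans ((hTop_iso (c₂.app E) i).symm.trans ?_)
  refine (hTop_iso ((DCoh.Lpull g).mapIso c₃) i).trans ?_
  haveI := (KFlatLib.isoAboveEpiAt_lpull g α m hα.1 hα.2).1 i hi
  refine ((topRank_iso (asIso ((DerivedCategory.homologyFunctor _ i).map ((DCoh.Lpull g).map α)))).symm).trans ?_
  have hfl := KFlatLib.isKFlat_tilde (isKFlat_free M r b (fun i hi => hr i (Or.inr hi)) hM)
  refine (hTop_iso (KFlatLib.lpullObjIso g ((tC A).obj M) hfl ≪≫
    DerivedCategory.Q.mapIso ((LpullTildeLib.cxIso φ).app M)) i).trans ?_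
  exact hTop_tilde _ i

end Groth.Agent.PerfFibreLib
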