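import Groth.Agent.PerfFibreLib.Model

/-!
# Euler characteristic and semicontinuity
-/

set_option autoImplicit false
set_option backward.isDefEq.respectTransparency false
set_option backward.isDefEq.respectTransparency.types false

universe u

open CategoryTheory CategoryTheory.Limits AlgebraicGeometry

attribute [local instance] HasDerivedCategory.standard

namespace Groth.Agent.PerfFibreLib

open Groth.Agent.PerfLib (resD IAE)

variable (X : Scheme.{u}) [∀ x : X, DCoh.HasLpull (X.fromSpecResidueField x)] (E : DCoh.D X)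

theorem isOpen_betti_lt (hE : ∀ m : ℤ, DCoh.IsPseudoCoherentD m E) (i : ℤ) (n : ℕ) :
    IsOpen {x : X | PerfD.betti E x i < n} := by
  refine isOpen_iff_mem_nhds.2 fun x hx => ?_
  obtain ⟨A, j, hj, p, M, r, a, b, α, hp, hr, hM, hα⟩ := exists_model_pc (hE (i - 1)) x
  subst hp
  have key : ∀ q, PerfD.betti E (j q) i = beta M q i := fun q =>
    betti_eq_beta E j M r a b hr hM α hα q i (by omega)
  have e := hM
  have hev := eventually_beta_le M r (fun k => (e k).some) p i
  refine Filter.mem_of_superset
    (j.isOpenEmbedding.isOpenMap.image_mem_nhds (Filter.eventually_iff.1 hev)) ?_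
  rintro _ ⟨q, hq, rfl⟩
  have hx' : PerfD.betti E (j p) i < n := hx
  rw [key] at hx'
  change PerfD.betti E (j q) i < n
  rw [key]
  exact lt_of_le_of_lt hq hx'

theorem eulerChar_isLocallyConstant (hE : DCoh.IsPerfect E) :
    IsLocallyConstant (fun x : X => PerfD.eulerChar E x) := by
  refine (IsLocallyConstant.iff_exists_open _).2 fun x => ?_
  obtain ⟨A, j, hj, p, M, r, a, b, α, hp, hr, hM⟩ := exists_model_perfect hE x
  have key : ∀ q, PerfD.eulerChar E (j q) =
      finsum (fun i : ℤ => (i.negOnePow : ℤ) * (r i : ℤ)) := fun q => by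
    rw [← euler_beta M r (fun k => (hM k).some) a b hr q]
    refine finsum_congr fun i => ?_
    rw [betti_eq_beta E j M r a b hr hM α.hom (IAE.of_isIso _ (i - 1)) q i (by omega)]
  subst hp
  refine ⟨Set.range j, j.isOpenEmbedding.isOpen_range, ⟨p, rfl⟩, ?_⟩
  rintro _ ⟨q, rfl⟩
  exact (key q).trans (key p).symm

end Groth.Agent.PerfFibreLib
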