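import Groth.Agent.FlatCxLib.Rank
import Groth.Agent.FlatCxLib.Homology
import Mathlib.Algebra.BigOperators.Finprod

/-!
# Fibre ranks of complexes of free modules
-/

set_option autoImplicit false
set_option backward.isDefEq.respectTransparency false
set_option backward.isDefEq.respectTransparency.types false

universe u

open CategoryTheory
open scoped TensorProduct

namespace Groth.Agent.PerfFibreLib

variable {A : Type u} [CommRing A]

/-- Complexes of modules. -/
abbrev MCx (R : Type u) [CommRing R] : Type (u + 1) := CochainComplex (ModuleCat.{u} R) ℤ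

variable (M : MCx A)

/-- The complex at a point. -/
noncomputable abbrev fib (p : PrimeSpectrum A) : MCx p.asIdeal.ResidueField :=
  ((ModuleCat.extendScalars.{u, u, u} (algebraMap A p.asIdeal.ResidueField)).mapHomologicalComplex
    (ComplexShape.up ℤ)).obj M

/-- The fibre Betti numbers. -/
noncomputable def beta (p : PrimeSpectrum A) (i : ℤ) : ℕ :=
  Module.finrank p.asIdeal.ResidueField ((fib M p).homology i)

/-- The cokernel of the differential into degree `i`. -/
abbrev cok (i : ℤ) : Type u := M.X i ⧸ LinearMap.range (M.d (i - 1) i).hom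

theorem beta_add (hM : ∀ i, Module.Finite A (M.X i)) (i : ℤ) (p : PrimeSpectrum A) :
    beta M p i + FlatCxLib.fibreRank (M.X (i + 1)) p =
      FlatCxLib.fibreRank (cok M i) p + FlatCxLib.fibreRank (cok M (i + 1)) p := by
  let K := p.asIdeal.ResidueField
  let Q := fib M p
  have := hM i
  have := hM (i + 1)
  let e : ∀ j, Q.X j ≃ₗ[K] K ⊗[A] M.X j := fun j => FlatCxLib.extEquiv (B := K) (M.X j)
  have hd : ∀ j k z, e k ((Q.d j k).hom z) = (M.d j k).hom.baseChange K (e j z) := fun j k z =>
    FlatCxLib.extEquiv_map (M.d j k) z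
  have hr : ∀ j k, (LinearMap.range (Q.d j k).hom).map (e k).toLinearMap =
      LinearMap.range ((M.d j k).hom.baseChange K) := fun j k => by
    ext y
    constructor
    · rintro ⟨_, ⟨z, rfl⟩, rfl⟩
      exact ⟨e j z, (hd j k z).symm⟩
    · rintro ⟨z, rfl⟩
      exact ⟨_, ⟨(e j).symm z, rfl⟩, (hd j k _).trans (congrArg _ ((e j).apply_symm_apply z))⟩
  haveI : Module.Finite K (Q.X i) := Module.Finite.equiv (e i).symm
  haveI : Module.Finite K (Q.X (i + 1)) := Module.Finite.equiv (e (i + 1)).symm
  have h := FlatCxLib.finrank_homology_add (K := K) (Q.d (i - 1) i).hom (Q.d i (i + 1)).hom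
    (LinearMap.range_le_ker_iff.2 (by rw [← ModuleCat.hom_comp, Q.d_comp_d]; rfl))
  rw [(FlatCxLib.homologyEquiv Q i (i + 1) (by simp) (i - 1) (by simp)).finrank_eq,
    (e (i + 1)).finrank_eq,
    (Submodule.Quotient.equiv _ _ (e i) (hr (i - 1) i)).finrank_eq,
    (Submodule.Quotient.equiv _ _ (e (i + 1)) (hr i (i + 1))).finrank_eq,
    ← FlatCxLib.finrank_coker_baseChange, ← FlatCxLib.finrank_coker_baseChange] at h
  have he : FlatCxLib.fibreRank (cok M (i + 1)) p =
      Module.finrank K (K ⊗[A] (M.X (i + 1) ⧸ LinearMap.range (M.d i (i + 1)).hom)) := by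
    have hj : ∀ j, j = i → FlatCxLib.fibreRank (M.X (i + 1) ⧸ LinearMap.range (M.d j (i + 1)).hom) p =
        Module.finrank K (K ⊗[A] (M.X (i + 1) ⧸ LinearMap.range (M.d i (i + 1)).hom)) := by
      rintro j rfl
      rfl
    exact hj _ (by omega)
  rw [he]
  exact h

theorem fibreRank_of_free {N : Type u} [AddCommGroup N] [Module A N] {r : ℕ} (e : N ≃ₗ[A] (Fin r → A))
    (p : PrimeSpectrum A) : FlatCxLib.fibreRank N p = r := by
  haveI : Module.Finite A N := Module.Finite.equiv e.symm
  haveI : Module.Free A N := Module.Free.of_equiv e.symm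
  haveI : Nontrivial A := ⟨0, 1, fun h => p.2.ne_top ((Ideal.eq_top_iff_one _).2 (h ▸ zero_mem _))⟩
  rw [FlatCxLib.fibreRank, Module.finrank_baseChange, e.finrank_eq, Module.finrank_fintype_fun_eq_card,
    Fintype.card_fin]

variable (r : ℤ → ℕ) (e : ∀ i, M.X i ≃ₗ[A] (Fin (r i) → A))
include e

/-- The Betti numbers are upper semicontinuous. -/
theorem eventually_beta_le (p : PrimeSpectrum A) (i : ℤ) :
    ∀ᶠ q in nhds p, beta M q i ≤ beta M p i := by
  have hM : ∀ j, Module.Finite A (M.X j) := fun j => Module.Finite.equiv (e j).symm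
  have h := fun q => beta_add M hM i q
  simp only [fibreRank_of_free (e (i + 1))] at h
  filter_upwards [FlatCxLib.eventually_fibreRank_le (cok M i) p,
    FlatCxLib.eventually_fibreRank_le (cok M (i + 1)) p] with q h1 h2
  have := h p
  have := h q
  omega

/-- The Euler characteristic is constant. -/
theorem euler_beta (a b : ℤ) (hv : ∀ i, i < a ∨ b < i → r i = 0) (p : PrimeSpectrum A) :
    finsum (fun i : ℤ => (i.negOnePow : ℤ) * (beta M p i : ℤ)) =
      finsum (fun i : ℤ => (i.negOnePow : ℤ) * (r i : ℤ)) := by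
  have hM : ∀ j, Module.Finite A (M.X j) := fun j => Module.Finite.equiv (e j).symm
  let c : ℤ → ℤ := fun i => (i.negOnePow : ℤ) * (FlatCxLib.fibreRank (cok M i) p : ℤ)
  let w : ℤ → ℤ := fun i => (i.negOnePow : ℤ) * (r i : ℤ)
  have hc : ∀ i, i < a ∨ b < i → c i = 0 := fun i hi => by
    haveI : Subsingleton (M.X i) := by
      haveI : IsEmpty (Fin (r i)) := by rw [hv i hi]; infer_instance
      exact (e i).injective.subsingleton
    have : FlatCxLib.fibreRank (cok M i) p = 0 := Module.finrank_zero_of_subsingleton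
    simp only [c, this, Nat.cast_zero, mul_zero]
  have hfin : ∀ (g : ℤ → ℤ), (∀ i, i < a ∨ b < i → g i = 0) → (Function.support g).Finite :=
    fun g hg => (Set.finite_Icc a b).subset fun i hi => by
      by_contra h
      exact hi (hg i (by simp only [Set.mem_Icc] at h; omega))
  have hfin' : ∀ (g : ℤ → ℤ), (∀ i, i < a ∨ b < i → g i = 0) →
      (Function.support fun i => g (i + 1)).Finite :=
    fun g hg => (Set.finite_Icc (a - 1) (b - 1)).subset fun i hi => by
      by_contra h
      exact hi (hg (i + 1) (by simp only [Set.mem_Icc] at h; omega))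
  have hw : ∀ i, i < a ∨ b < i → w i = 0 := fun i hi => by simp [w, hv i hi]
  have key : ∀ i : ℤ, (i.negOnePow : ℤ) * (beta M p i : ℤ) = (c i - c (i + 1)) + w (i + 1) := fun i => by
    have h := beta_add M hM i p
    rw [fibreRank_of_free (e (i + 1))] at h
    simp only [c, w, Int.negOnePow_succ, Units.val_neg, neg_mul, sub_neg_eq_add]
    rw [← mul_add, ← sub_eq_add_neg, ← mul_sub]
    congr 1
    omega
  have hshift : ∀ g : ℤ → ℤ, finsum (fun i => g (i + 1)) = finsum g := fun g =>
    finsum_comp_equiv (Equiv.addRight (1 : ℤ)) (f := g)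
  rw [finsum_congr key, finsum_add_distrib ((hfin c hc).union (hfin' c hc) |>.subset
      (fun i hi => by
        simp only [Function.mem_support, Set.mem_union] at hi ⊢
        by_contra h
        push Not at h
        exact hi (by rw [h.1, h.2, sub_zero]))) (hfin' w hw),
    finsum_sub_distrib (hfin c hc) (hfin' c hc), hshift c, sub_self, zero_add, hshift w]

end Groth.Agent.PerfFibreLib
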