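import Mathlib.RingTheory.Support
import Mathlib.RingTheory.LocalRing.ResidueField.Fiber
import Mathlib.LinearAlgebra.TensorProduct.RightExactness
import Mathlib.RingTheory.TensorProduct.Finite
import Mathlib.RingTheory.OrzechProperty
import Mathlib.RingTheory.LocalRing.Module
import Mathlib.RingTheory.Localization.Away.Basic

/-!
# Exactness at a residue field spreads out to a split exactness on a neighbourhood
-/

set_option autoImplicit false

universe u

open scoped TensorProduct

namespace Groth.Agent.PerfFibreLib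

variable {R : Type u} [CommRing R] (p : Ideal R) [p.IsPrime]

/-- Clearing the denominator of an element of a residue tensor product. -/
theorem exists_smul_eq_one_tmul {M : Type u} [AddCommGroup M] [Module R M]
    (z : p.ResidueField ⊗[R] M) : ∃ t ∉ p, ∃ m : M, t • z = (1 : p.ResidueField) ⊗ₜ[R] m := by
  induction z using TensorProduct.induction_on with
  | zero => exact ⟨1, fun h => Ideal.IsPrime.ne_top ‹_› ((Ideal.eq_top_iff_one _).2 h), 0, by simp⟩
  | tmul a m =>
    obtain ⟨x, y, hy, rfl⟩ := IsFractionRing.div_surjective (R ⧸ p) a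
    obtain ⟨r, rfl⟩ := Ideal.Quotient.mk_surjective x
    obtain ⟨t, rfl⟩ := Ideal.Quotient.mk_surjective y
    have ht : t ∉ p := fun h =>
      nonZeroDivisors.ne_zero hy (Ideal.Quotient.eq_zero_iff_mem.2 h)
    refine ⟨t, ht, r • m, ?_⟩
    have ht0 : algebraMap R p.ResidueField t ≠ 0 := fun h =>
      ht ((Ideal.algebraMap_residueField_eq_zero).1 h)
    rw [TensorProduct.tmul_smul, TensorProduct.smul_tmul', TensorProduct.smul_tmul']
    congr 1
    rw [Algebra.smul_def, Algebra.smul_def, mul_one]
    exact mul_div_cancel₀ _ ht0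
  | add x y hx hy =>
    obtain ⟨t, ht, m, hm⟩ := hx
    obtain ⟨t', ht', m', hm'⟩ := hy
    refine ⟨t * t', fun h => (Ideal.IsPrime.mem_or_mem ‹_› h).elim ht ht', t' • m + t • m', ?_⟩
    rw [smul_add, TensorProduct.tmul_add, TensorProduct.tmul_smul, TensorProduct.tmul_smul, ← hm,
      ← hm', smul_smul, smul_smul, mul_comm t t']

/-- A map to a finite free module injective at a residue field splits on a neighbourhood. -/
theorem exists_away_leftInverse {C W : Type u} [AddCommGroup C] [Module R C] [Module.Finite R C]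
    [AddCommGroup W] [Module R W] [Module.Free R W] [Module.Finite R W] (gb : C →ₗ[R] W)
    (h : Function.Injective (gb.baseChange p.ResidueField)) :
    ∃ s ∉ p, ∃ l : (Localization.Away s) ⊗[R] W →ₗ[Localization.Away s] (Localization.Away s) ⊗[R] C,
      l ∘ₗ gb.baseChange (Localization.Away s) = LinearMap.id := by
  classical
  obtain ⟨π, hπ⟩ := LinearMap.exists_leftInverse_of_injective (gb.baseChange p.ResidueField)
    (LinearMap.ker_eq_bot.2 h)
  let b := Module.Free.chooseBasis R W
  have hc : ∀ j, ∃ t ∉ p, ∃ m : C,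
      t • π ((1 : p.ResidueField) ⊗ₜ[R] b j) = (1 : p.ResidueField) ⊗ₜ[R] m := fun j =>
    exists_smul_eq_one_tmul p _
  choose t ht m hm using hc
  let T : R := ∏ j, t j
  have hT : T ∉ p := fun hh => by
    obtain ⟨j, -, hj⟩ := (Ideal.IsPrime.prod_mem_iff (p := p)).1 hh
    exact ht j hj
  let φ : W →ₗ[R] C := b.constr R fun j => (∏ k ∈ Finset.univ.erase j, t k) • m j
  have hφ : ∀ w : W, (1 : p.ResidueField) ⊗ₜ[R] φ w = T • π ((1 : p.ResidueField) ⊗ₜ[R] w) := by
    intro w
    have : (TensorProduct.mk R p.ResidueField C 1) ∘ₗ φ =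
        T • ((π.restrictScalars R) ∘ₗ (TensorProduct.mk R p.ResidueField W 1)) := by
      refine b.ext fun j => ?_
      simp only [LinearMap.coe_comp, Function.comp_apply, TensorProduct.mk_apply, φ,
        Module.Basis.constr_basis, LinearMap.smul_apply, LinearMap.coe_restrictScalars]
      rw [TensorProduct.tmul_smul, ← hm j, smul_smul]
      congr 1
      exact Finset.prod_erase_mul _ _ (Finset.mem_univ j)
    exact LinearMap.congr_fun this w
  let ψ : C →ₗ[R] C := φ ∘ₗ gb
  have hψ : ∀ z : p.ResidueField ⊗[R] C, ψ.baseChange p.ResidueField z = T • z := by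
    intro z
    induction z using TensorProduct.induction_on with
    | zero => simp
    | add x y hx hy => rw [map_add, hx, hy, smul_add]
    | tmul a c =>
      have h1 : π ((1 : p.ResidueField) ⊗ₜ[R] gb c) = (1 : p.ResidueField) ⊗ₜ[R] c := by
        have := LinearMap.congr_fun hπ ((1 : p.ResidueField) ⊗ₜ[R] c)
        simpa using this
      have h2 := hφ (gb c)
      rw [h1] at h2
      have h3 : a • ((1 : p.ResidueField) ⊗ₜ[R] φ (gb c)) =
          a • (T • ((1 : p.ResidueField) ⊗ₜ[R] c)) := congrArg (a • ·) h2
      rw [smul_comm a T, TensorProduct.smul_tmul', TensorProduct.smul_tmul', smul_eq_mul,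
        mul_one] at h3
      simpa [ψ] using h3
  have hT0 : algebraMap R p.ResidueField T ≠ 0 := fun hh =>
    hT ((Ideal.algebraMap_residueField_eq_zero).1 hh)
  have hsurj : Function.Surjective (ψ.baseChange p.ResidueField) := fun z =>
    ⟨(algebraMap R p.ResidueField T)⁻¹ • z, by
      rw [map_smul, hψ, ← algebraMap_smul p.ResidueField T z, smul_smul, inv_mul_cancel₀ hT0,
        one_smul]⟩
  have hq : Subsingleton (p.ResidueField ⊗[R] (C ⧸ LinearMap.range ψ)) := by
    refine subsingleton_of_forall_eq 0 fun z => ?_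
    obtain ⟨y, rfl⟩ := LinearMap.lTensor_surjective p.ResidueField
      (Submodule.mkQ_surjective (LinearMap.range ψ)) z
    obtain ⟨x, rfl⟩ := hsurj y
    exact (lTensor_exact p.ResidueField (LinearMap.exact_map_mkQ_range ψ)
      (Submodule.mkQ_surjective _)).apply_apply_eq_zero x
  have hsupp : (⟨p, inferInstance⟩ : PrimeSpectrum R) ∉ Module.support R (C ⧸ LinearMap.range ψ) := by
    rw [Module.mem_support_iff_nontrivial_residueField_tensorProduct, not_nontrivial_iff_subsingleton]
    exact hq
  rw [Module.mem_support_iff_of_finite, SetLike.not_le_iff_exists] at hsupp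
  obtain ⟨s, hs, hsp⟩ := hsupp
  refine ⟨s, hsp, ?_⟩
  let Rs := Localization.Away s
  have hsu : IsUnit (algebraMap R Rs s) := IsLocalization.Away.algebraMap_isUnit s
  have hψs : Function.Surjective (ψ.baseChange Rs) := by
    intro z
    have : algebraMap R Rs s • z ∈ LinearMap.range (ψ.baseChange Rs) := by
      induction z using TensorProduct.induction_on with
      | zero => simp
      | add x y hx hy => rw [smul_add]; exact add_mem hx hy
      | tmul a c =>
        have hc : s • (Submodule.Quotient.mk c : C ⧸ LinearMap.range ψ) = 0 :=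
          Module.mem_annihilator.1 hs _
        rw [← Submodule.Quotient.mk_smul, Submodule.Quotient.mk_eq_zero] at hc
        obtain ⟨c', hc'⟩ := hc
        exact ⟨a ⊗ₜ[R] c', by
          rw [LinearMap.baseChange_tmul, hc', algebraMap_smul, TensorProduct.tmul_smul]⟩
    obtain ⟨w, hw⟩ := this
    exact ⟨(hsu.unit⁻¹ : Rsˣ).1 • w, by
      rw [map_smul, hw, smul_smul, IsUnit.val_inv_mul, one_smul]⟩
  have hbij : Function.Bijective (ψ.baseChange Rs) :=
    ⟨OrzechProperty.injective_of_surjective_endomorphism _ hψs, hψs⟩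
  let e := LinearEquiv.ofBijective (ψ.baseChange Rs) hbij
  refine ⟨e.symm.toLinearMap ∘ₗ φ.baseChange Rs, LinearMap.ext fun x => ?_⟩
  simp only [LinearMap.coe_comp, LinearEquiv.coe_coe, Function.comp_apply, LinearMap.id_coe, id_eq]
  rw [← LinearMap.comp_apply, ← LinearMap.baseChange_comp]
  exact e.symm_apply_apply x

/-- Exactness at a residue field gives, on a neighbourhood, exactness and a projector onto the
image of the second map. -/
theorem exists_away_split {U V W : Type u} [AddCommGroup U] [Module R U] [AddCommGroup V] [Module R V]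
    [Module.Finite R V] [AddCommGroup W] [Module R W] [Module.Free R W] [Module.Finite R W]
    (f : U →ₗ[R] V) (g : V →ₗ[R] W) (hgf : g ∘ₗ f = 0)
    (hx : Function.Exact (f.baseChange p.ResidueField) (g.baseChange p.ResidueField)) :
    ∃ s ∉ p, Function.Exact (f.baseChange (Localization.Away s)) (g.baseChange (Localization.Away s)) ∧
      ∃ q : (Localization.Away s) ⊗[R] W →ₗ[Localization.Away s] (Localization.Away s) ⊗[R] W,
        (∀ x, q (g.baseChange (Localization.Away s) x) = g.baseChange (Localization.Away s) x) ∧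
          ∀ y, q y ∈ LinearMap.range (g.baseChange (Localization.Away s)) := by
  let gb : (V ⧸ LinearMap.range f) →ₗ[R] W :=
    (LinearMap.range f).liftQ g (LinearMap.range_le_ker_iff.2 hgf)
  have hgb : gb ∘ₗ (LinearMap.range f).mkQ = g := Submodule.liftQ_mkQ _ _ _
  have hbc : ∀ (S : Type u) [CommRing S] [Algebra R S] (y : S ⊗[R] V),
      gb.baseChange S ((LinearMap.range f).mkQ.baseChange S y) = g.baseChange S y :=
    fun S _ _ y => by rw [← LinearMap.comp_apply, ← LinearMap.baseChange_comp, hgb]
  have hinj : Function.Injective (gb.baseChange p.ResidueField) := by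
    refine (injective_iff_map_eq_zero _).2 fun z hz => ?_
    obtain ⟨y, rfl⟩ := LinearMap.lTensor_surjective p.ResidueField
      (Submodule.mkQ_surjective (LinearMap.range f)) z
    obtain ⟨x, rfl⟩ := (hx y).1 ((hbc p.ResidueField y).symm.trans hz)
    exact (lTensor_exact p.ResidueField (LinearMap.exact_map_mkQ_range f)
      (Submodule.mkQ_surjective _)).apply_apply_eq_zero x
  obtain ⟨s, hs, l, hl⟩ := exists_away_leftInverse p gb hinj
  refine ⟨s, hs, ?_⟩
  let Rs := Localization.Away s
  have hmk : Function.Surjective ((LinearMap.range f).mkQ.baseChange Rs) :=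
    LinearMap.lTensor_surjective Rs (Submodule.mkQ_surjective _)
  have hex : Function.Exact (f.baseChange Rs) ((LinearMap.range f).mkQ.baseChange Rs) :=
    lTensor_exact Rs (LinearMap.exact_map_mkQ_range f) (Submodule.mkQ_surjective _)
  have hl' : ∀ x, l (gb.baseChange Rs x) = x := LinearMap.congr_fun hl
  refine ⟨fun y => ⟨fun hy => (hex y).1 ?_, ?_⟩, gb.baseChange Rs ∘ₗ l, fun x => ?_, fun y => ?_⟩
  · rw [← hl' ((LinearMap.range f).mkQ.baseChange Rs y), hbc, hy, map_zero]
  · rintro ⟨x, rfl⟩
    rw [← LinearMap.comp_apply, ← LinearMap.baseChange_comp, hgf]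
    simp
  · rw [← hbc, LinearMap.comp_apply, hl']
  · obtain ⟨v, hv⟩ := hmk (l y)
    exact ⟨v, by rw [LinearMap.comp_apply, ← hv, hbc]⟩

end Groth.Agent.PerfFibreLib
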